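import Groth.Agent.ExtShLib.SerreAbut
import Groth.Agent.QCohLib.Coherent
import Groth.Agent.DCohLib.PerfCoh
import Groth.Agent.DCohMore.TensorCoh

/-!
# Coherent modules form a weak Serre class
-/

set_option autoImplicit false
set_option linter.style.haveILetI false

universe u

open CategoryTheory CategoryTheory.Limits AlgebraicGeometry
open Coherent

namespace Groth.Agent.CohSerreLib

theorem isWeakSerre_isCoh (X : Scheme.{u}) [IsLocallyNoetherian X] :
    ExtShLib.IsWeakSerre (fun M : X.Modules => Coh.IsCoh M) where
  iso e h := DCohLib.isCoh_iso e h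
  zero h := DCohMore.isCoh_of_isZero h
  ker f hA hB := (QCohLib.isCoh_kernel_cokernel f hA hB).1
  coker f hA hB := (QCohLib.isCoh_kernel_cokernel f hA hB).2
  ext hS h1 h3 := QCohLib.isCoh_X₂ hS h1 h3

end Groth.Agent.CohSerreLib
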