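import Groth.Agent.ExtShLib.SerreAbut

/-!
# Abutments in a weak Serre class, in a range of degrees
-/

set_option autoImplicit false
set_option linter.style.haveILetI false
universe v u

open CategoryTheory Limits

noncomputable section

namespace Groth.Agent.CohSerreLib

open Groth.Agent.ExtShLib

variable {C : Type u} [Category.{v} C] [Abelian C] {P : C → Prop}

/-- If the second page of a spectral sequence is concentrated in `0 ≤ p` and lies in a weak Serre class in
the rows `q ≤ N`, then so do the entries of total degree `≤ N` of all pages. -/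
theorem page_range (hP : IsWeakSerre P) {E : E₂CohomologicalSpectralSequence C} (N : ℤ)
    (hz : ∀ p q : ℤ, p < 0 → IsZero ((E.page 2 le_rfl).X (p, q)))
    (hE : ∀ p q : ℤ, q ≤ N → P ((E.page 2 le_rfl).X (p, q))) (r : ℤ) (hr : 2 ≤ r) :
    (∀ p q : ℤ, p < 0 → IsZero ((E.page r hr).X (p, q))) ∧
      ∀ p q : ℤ, (p + q ≤ N ∨ q + (p + q - N - 1) * (r - 2) ≤ N) → P ((E.page r hr).X (p, q)) := by
  induction r, hr using Int.le_induction with
  | base =>
    refine ⟨hz, fun p q h => ?_⟩
    obtain hp | hp := lt_or_ge p 0
    · exact hP.zero (hz p q hp)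
    · exact hE p q (by
        rcases h with h | h
        · omega
        · simpa using h)
  | succ r hr ih =>
    obtain ⟨ihz, ih⟩ := ih
    have hzero : ∀ p q : ℤ, p < 0 → IsZero ((E.page (r + 1) (by omega)).X (p, q)) := fun p q hp => by
      have h2 : IsZero ((E.page r hr).X (p, q)) := ihz p q hp
      refine IsZero.of_iso ?_ (E.iso r (r + 1) (p, q) rfl hr).symm
      exact (ShortComplex.exact_iff_isZero_homology _).1 (ShortComplex.exact_of_isZero_X₂ _ h2)
    refine ⟨hzero, fun p q h => ?_⟩
    obtain hp | hp := lt_or_ge p 0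
    · exact hP.zero (hzero p q hp)
    refine hP.iso (E.iso r (r + 1) (p, q) rfl hr) (hP.homology _ ?_ ?_ ?_)
    · -- the source
      have e : (ComplexShape.up' ((r, 1 - r) : ℤ × ℤ)).prev (p, q) = (p - r, q + r - 1) :=
        ComplexShape.prev_eq' _ (by ext <;> simp <;> ring)
      change P ((E.page r hr).X _)
      erw [e]
      refine ih _ _ ?_
      rcases h with h | h
      · exact Or.inl (by omega)
      · by_cases h1 : p + q ≤ N + 1
        · exact Or.inl (by omega)
        · exact Or.inr (by nlinarith)
    · refine ih _ _ ?_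
      rcases h with h | h
      · exact Or.inl h
      · by_cases h1 : p + q ≤ N
        · exact Or.inl h1
        · exact Or.inr (by nlinarith)
    · -- the target
      have e : (ComplexShape.up' ((r, 1 - r) : ℤ × ℤ)).next (p, q) = (p + r, q + (1 - r)) :=
        ComplexShape.next_eq' _ rfl
      change P ((E.page r hr).X _)
      erw [e]
      refine ih _ _ ?_
      by_cases h1 : p + q ≤ N - 1
      · exact Or.inl (by omega)
      · refine Or.inr ?_
        rcases h with h | h
        · have : p + q = N := by omega
          nlinarith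
        · nlinarith

/-- An abutment in total degree at most `N` lies in a weak Serre class when the rows `q ≤ N` of the
second page do and the page is concentrated in `0 ≤ p`. -/
theorem abutment_range (hP : IsWeakSerre P) {E : E₂CohomologicalSpectralSequence C} {H : ℤ → C}
    (a : SpSeq.Abutment E H) (N : ℤ) (hz : ∀ p q : ℤ, p < 0 → IsZero ((E.page 2 le_rfl).X (p, q)))
    (hE : ∀ p q : ℤ, q ≤ N → P ((E.page 2 le_rfl).X (p, q))) (n : ℤ) (hnN : n ≤ N) (hn : a.IsFinite n) :
    P (H n) := by
  obtain ⟨⟨c, hc⟩, d, hd⟩ := hn
  change a.fil n c = ⊤ at hc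
  change a.fil n d = ⊥ at hd
  have hbot : ∀ i, d ≤ i → P ((a.fil n i : Subobject (H n)) : C) := fun i hi => by
    have h : a.fil n i = ⊥ := le_bot_iff.1 (hd ▸ a.anti n hi)
    rw [h]
    exact hP.zero (IsZero.of_iso (isZero_zero C) Subobject.botCoeIsoZero)
  have key : ∀ k : ℕ, ∀ i, d - i ≤ k → P ((a.fil n i : Subobject (H n)) : C) := by
    intro k
    induction k with
    | zero => exact fun i hi => hbot i (by omega)
    | succ k ih =>
      intro i hi
      obtain h | h := le_or_gt d i
      · exact hbot i h
      obtain ⟨q, rfl⟩ : ∃ q, n = i + q := ⟨n - i, by omega⟩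
      have hg := hP.iso (a.β (i, q))
        ((page_range hP N hz hE _ (a.stat (i, q)).1).2 i q (Or.inl hnN))
      let f := (a.fil (i + q) (i + 1)).ofLE _ (a.anti (i + q) (Int.le_add_one le_rfl))
      exact hP.ext (S := ShortComplex.mk f (cokernel.π f) (cokernel.condition f))
        { exact := ShortComplex.exact_of_g_is_cokernel _ (cokernelIsCokernel f)
          mono_f := inferInstanceAs (Mono f)
          epi_g := inferInstanceAs (Epi (cokernel.π f)) } (ih (i + 1) (by omega)) hg
  have h := key (d - c).toNat c (by omega)
  rw [hc] at h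
  exact hP.iso (asIso (⊤ : Subobject (H n)).arrow) h

end Groth.Agent.CohSerreLib
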