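import Groth.Agent.DevLib.Apps
import Groth.Agent.ProjCoh.PSData

/-!
# Serre classes of coherent modules are cut out by supports
-/

set_option autoImplicit false
set_option linter.style.haveILetI false

universe u

open CategoryTheory CategoryTheory.Limits AlgebraicGeometry TopologicalSpace Opposite
open Groth.Agent.PullbackMod Groth.Agent.QCohLib Groth.Agent.DevLib Groth.Agent.DCohLib

noncomputable section

namespace Groth.Agent.CohSerreLib

variable {X : Scheme.{u}}

/-- A Serre class on coherent modules. -/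
def IsSerre (P : ObjectProperty X.Modules) : Prop :=
  ∀ S : ShortComplex X.Modules, S.ShortExact → Coh.IsCoh S.X₁ → Coh.IsCoh S.X₂ → Coh.IsCoh S.X₃ →
    (P S.X₂ ↔ P S.X₁ ∧ P S.X₃)

theorem isSerre_support (C : Set X) : IsSerre (fun M : X.Modules => CohB1.support M ⊆ C) := fun S hS _ _ _ => by
  show CohB1.support S.X₂ ⊆ C ↔ CohB1.support S.X₁ ⊆ C ∧ CohB1.support S.X₃ ⊆ C
  rw [support_X₂ hS, Set.union_subset_iff]

variable [AlgebraicGeometry.IsNoetherian X] {P : ObjectProperty X.Modules}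

theorem mem_of_support_le (hP : IsSerre P) {F : X.Modules} (hF : Coh.IsCoh F) (hPF : P F) {M : X.Modules}
    (hM : Coh.IsCoh M) (hle : CohB1.support M ⊆ CohB1.support F) : P M := by
  let C0 := cokernel (𝟙 F)
  have hC0 : IsZero C0 := isZero_cokernel_of_epi _
  have hC0c : Coh.IsCoh C0 := (isCoh_kernel_cokernel (𝟙 F) hF hF).2
  have hPC0 : P C0 := ((hP (cokerSeq (𝟙 F)) (cokerSeq_shortExact _) hF hF hC0c).1 hPF).2
  have hiso : ∀ A B : X.Modules, Coh.IsCoh A → Coh.IsCoh B → ∀ (f : A ⟶ B) [IsIso f], P A → P C0 → P B := by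
    intro A B hA hB f _ hPA hC
    refine (hP (ShortComplex.mk f (0 : B ⟶ C0) comp_zero) ?_ hA hB hC0c).2 ⟨hPA, hC⟩
    refine ShortComplex.ShortExact.mk' ((ShortComplex.exact_iff_epi _ rfl).2 (inferInstanceAs (Epi f)))
      (inferInstanceAs (Mono f)) ?_
    exact ⟨fun g h _ => hC0.eq_of_src g h⟩
  let P' : X.Modules → Prop := fun N => Coh.IsCoh N → P N
  refine devissage (CohB1.support F) P' ?_ ?_ ?_ ?_ M hM hle hM
  · rintro A B ⟨e⟩ hA hB
    have hAc := Groth.Agent.ProjCoh.isCoh_of_iso e.symm hB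
    exact hiso A B hAc hB e.hom (hA hAc) hPC0
  · intro N hN hNc
    exact hiso C0 N hC0c hNc (hC0.iso hN).hom hPC0 hPC0
  · intro S hS h1 h2 h3 _ hP1 hP3 _
    exact (hP S hS h1 h2 h3).2 ⟨hP1 h1, hP3 h3⟩
  intro ξ hξ hξT Q hQ hsm
  haveI := hF.1
  let S : Submodule (X.presheaf.stalk ξ) (F.presheaf.stalk ξ) :=
    IsLocalRing.maximalIdeal (X.presheaf.stalk ξ) • ⊤
  have hS : Absorbs S := fun a ha z => ⟨1, Submodule.smul_mem_smul ((pow_one a).symm ▸ ha) Submodule.mem_top⟩
  have hSc := isCoh_subAt hF hS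
  let C := cokernel (subAtι S)
  have hCc : Coh.IsCoh C := (isCoh_kernel_cokernel _ hSc hF).2
  have hPC : P C := ((hP (cokerSeq (subAtι S)) (cokerSeq_shortExact _) hSc hF hCc).1 hPF).2
  have hCs : ∀ y ∈ CohB1.support C, ξ ⤳ y := fun y hy => by
    by_contra hyξ
    exact hy (subsingleton_coker _ (surjective_stalk_subAtι S hyξ))
  have hCξ : Nontrivial (C.presheaf.stalk ξ) := by
    by_contra h
    rw [not_nontrivial_iff_subsingleton] at h
    haveI := finite_stalk_of_isFT hF.2 ξ
    haveI : Nontrivial (F.presheaf.stalk ξ) := not_subsingleton_iff_nontrivial.1 hξ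
    have htop : S = ⊤ := by
      refine top_le_iff.1 fun z _ => ?_
      rw [← range_stalk_subAtι S]
      exact (coker_exact _ ξ z).1 (Subsingleton.elim _ _)
    exact (top_ne_bot : (⊤ : Submodule (X.presheaf.stalk ξ) (F.presheaf.stalk ξ)) ≠ ⊥)
      (Submodule.eq_bot_of_le_smul_of_le_jacobson_bot (IsLocalRing.maximalIdeal (X.presheaf.stalk ξ)) ⊤
        Module.Finite.fg_top htop.ge (IsLocalRing.maximalIdeal_le_jacobson _))
  haveI := hCc.1
  haveI := finite_stalk_of_isFT hCc.2 ξ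
  obtain ⟨S₁, hS₁⟩ := IsCoatomic.eq_top_or_exists_le_coatom
    (⊥ : Submodule (X.presheaf.stalk ξ) (C.presheaf.stalk ξ)) |>.resolve_left bot_ne_top
  have hB : Absorbs (⊥ : Submodule (X.presheaf.stalk ξ) (C.presheaf.stalk ξ)) :=
    absorbs_bot (W₀ := ⊤) trivial fun y _ hy => hCs y hy
  have hsimple : IsSimpleModule (X.presheaf.stalk ξ)
      (↥(⊤ : Submodule (X.presheaf.stalk ξ) (C.presheaf.stalk ξ)) ⧸ S₁.comap (Submodule.subtype _)) := by
    haveI : IsSimpleModule (X.presheaf.stalk ξ) (C.presheaf.stalk ξ ⧸ S₁) := isSimpleModule_iff_isCoatom.2 hS₁.1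
    refine IsSimpleModule.congr (Submodule.Quotient.equiv _ S₁ Submodule.topEquiv ?_)
    ext z
    simp
  have hSS := isCoh_subAt hCc (hB.mono bot_le : Absorbs S₁)
  have hST := isCoh_subAt hCc (hB.mono bot_le : Absorbs (⊤ : Submodule (X.presheaf.stalk ξ) (C.presheaf.stalk ξ)))
  have hG := isPiece_coker hCc (hB.mono bot_le) le_top hCs hsimple (subAtMap le_top) (subAtMap_ι _)
  have hPT : P (subAt (⊤ : Submodule (X.presheaf.stalk ξ) (C.presheaf.stalk ξ))) := by
    haveI := isIso_subAtι_top (M := C) ξ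
    exact hiso C _ hCc hST (inv (subAtι _)) hPC hPC0
  have hPG := ((hP (cokerSeq (subAtMap le_top)) (cokerSeq_shortExact _) hSS hST hG.coh).1 hPT).2
  refine piece_of_ext (CohB1.support F) hξT P' (fun T hT h1 h2 h3 _ hP1 hP3 _ => (hP T hT h1 h2 h3).2 ⟨hP1 h1, hP3 h3⟩)
    hG (fun H q hq hH _ => ?_) hQ hsm
  exact ((hP (cokerSeq q) (cokerSeq_shortExact _) hH hG.coh (isCoh_kernel_cokernel q hH hG.coh).2).1 hPG).1

theorem exists_coh_support (Z : Closeds X) : ∃ F : X.Modules, Coh.IsCoh F ∧ CohB1.support F = (Z : Set X) := by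
  let I := Scheme.IdealSheafData.vanishingIdeal Z
  have hr : Set.range I.subschemeι = (Z : Set X) := by
    rw [Scheme.IdealSheafData.range_subschemeι, Scheme.IdealSheafData.coe_support_vanishingIdeal]
  refine ⟨(Scheme.Modules.pushforward I.subschemeι).obj (Coh.structureModule I.subscheme),
    isCoh_pushforward_closed _ (isCoh_structureModule _), ?_⟩
  ext y
  refine ⟨fun hy => hr ▸ by_contra fun h => hy (subsingleton_stalk_pushforward _ _ y h), fun hy => ?_⟩
  obtain ⟨z, rfl⟩ : y ∈ Set.range I.subschemeι := hr ▸ hy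
  intro hsub
  have hb := bijective_pushStalk I.subschemeι (Coh.structureModule I.subscheme) z
  haveI : Subsingleton ((Coh.structureModule I.subscheme).presheaf.stalk z) :=
    @Function.Surjective.subsingleton _ _ _ hsub hb.2
  refine one_ne_zero (α := I.subscheme.presheaf.stalk z) ?_
  rw [← map_one (I.subscheme.presheaf.germ ⊤ z trivial).hom,
    ← map_zero (I.subscheme.presheaf.germ ⊤ z trivial).hom]
  exact (unit_germ_congr I.subscheme (U := ⊤) (V := ⊤) trivial trivial _ _).1 (Subsingleton.elim _ _)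

end Groth.Agent.CohSerreLib
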